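import Mathlib
import Cfsg.Agent.Lib.helper15.St2
import Cfsg.Agent.Lib.helper7.CeB

/-!
# Family F4O (designer helper6), for **S2114** (10u: the Schur multiplier of `²F₄(q)`, `q = 2^(2m+1) ≥ 8`, is trivial) — definitions

## The octagonal datum
`Oct K`: a field `K` of characteristic `2` with an endomorphism `σ` such that `σ (σ x) = x ^ 2` (a *Tits endomorphism*).  In the application
`K` has `2^(2m+1)` elements and `σ x = x ^ (2^(m+1))`; the Prelude's `θ = (·) ^ (2^m)` (`Lie.twistedF4 K (2^m)`) satisfies `σ x = (θ x) ^ 2`.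
`nm t u = t ^ 2 * σ t + t * u + σ u` (the norm `N(t,u) = t^(2+σ) + t u + u^σ` of the Suzuki root group, ANISOTROPIC: `nm t u = 0 → t = 0 ∧ u = 0`),
`br t u = t * σ t + u` (so that `(t,u)⁻¹ = (t, br t u)` in the Suzuki root group).

## The Steinberg system of type `²F₄` (twisted root system: the 16 roots of an octagon)
The 16 twisted roots are numbered by `ZMod 16`, root `i` at the angle `22.5° · i`.  The even roots `2k` are of type `S` (root groups `≅ (K,+)`,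
root elements `xs k t`), the odd roots `2k + 1` are of type `L` (SUZUKI root groups of order `q²`, root elements `xl k t u`, with
`xl k t u * xl k v w = xl k (t + v) (u + w + t * σ v)`; centre `{xl k 0 u}`), `k : ZMod 8`.  `-S_k = S_{k+4}`, `-L_k = L_{k+4}`.
Positive roots `S_0 L_0 S_1 L_1 S_2 L_2 S_3 L_3`; SIMPLE roots `S_0` and `L_3`.

In `²F₄(q) = Lie.twistedF4 K (2^m) ≤ GL(chevF4.Idx) K` (root numbering of `Def_ChevF4`): with `ρ = w₁ w₂`, `w₁ = s_{p₁} s_{p₄}`, `w₂ = (s_{p₂} s_{p₃})²`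
(of order `8` on the 48 roots), the pair classes `P_k = ρ^k (33,24)` are
`(33,24) (38,43) (39,45) (37,32) (14,23) (9,4) (8,2) (10,15)` and the `B₂` classes `C_k = ρ^k (27,25,28,30)` are
`(27,25,28,30) (13,21,11,5) (18,6,3,0) (12,16,7,1) (20,22,19,17) (34,26,36,42) (29,41,44,47) (35,31,40,46)`;
`xs k t = x_r(t) x_r̄(σ t)` for `(r, r̄) = P_k` (the Prelude generator `f4PairWord e 33 24 τ` is `xs 0 (τ^θ)`), and
`xl k t u = x_a(t) x_b(σ t) x_{a+b}(t σt + u) x_{2a+b}(σ u)` for `(a, b, a+b, 2a+b) = C_{k+5}` (so `xl 3` is the class `C_0`, the Prelude generator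
`b2ClassWord e 27 25 28 30 τ u` is `xl 3 (τ^θ) u`; `xl 7` is the negative class `C_4`).  In characteristic `2` the conjugation by `ρ` adds no signs.

With this normalisation ALL relations are uniform in `k`.  They were found with a symbolic collector in `U(F₄)` (char. 2, exponents in `ℕ[σ]`) and
CHECKED NUMERICALLY on the `52 × 52` matrices of the Prelude (`Def_ChevF4`) over `F_8`, `F_32` and `F_128` (Python model `scratch6/f4/` of helper6: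
`check_mat.py` = the 16 fields of `SysU`, `check_weyl2.py` = the 32 Weyl fields of `SysO`).
`cm a b = a * b * a⁻¹ * b⁻¹` (helper7 `CeA`), `cj g a = g * a * g⁻¹` (helper15 `St2`).  Write `N = nm t u`, `ū = br t u`, `N' = nm v w`, `w̄ = br v w`.

* pairs of roots at an angle `< 180°` that COMMUTE: `(S_k, L_k)`, `(S_k, S_{k+1})`, `(S_k, S_{k+2})`, `(L_k, S_{k+1})`, `(L_k, L_{k+2})`;
* `sl1`: `cm (S_k t) (L_{k+1} v w) = L_k (0, t v)`;   `ll1`: `cm (L_k t u) (L_{k+1} v w) = S_{k+1} (t v)`;   `ls2`: `cm (L_k t u) (S_{k+2} v) = L_{k+1} (0, t v)`;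
* `sl2`: `cm (S_k t) (L_{k+2} v w) = L_k (0, σt v) * S_{k+1} (t σv) * L_{k+1} (0, t w)`;
* `ss3`: `cm (S_k t) (S_{k+3} v) = S_{k+1} (σt v) * S_{k+2} (t σv)`;
* `ls3`: `cm (L_k t u) (S_{k+3} v) = L_{k+1} (0, u v) * S_{k+2} (σt v) * L_{k+2} (0, t σv)`;
* `sl3`: `cm (S_k t) (L_{k+3} v w) = L_k (t v, t σt w) * S_{k+1} (t σt N') * L_{k+1} (σt w, t² σt w̄ N') * S_{k+2} (t σt σN') * L_{k+2} (t w̄, t σt v σN') * S_{k+3} (t N')`;
* `ll3`: `cm (L_k t u) (L_{k+3} v w) = S_{k+1} (u v) * L_{k+1} (σt v, t u v σv + N w) * S_{k+2} (ū w̄) * L_{k+2} (t σv, t σt v w̄ + u N') * S_{k+3} (t w)`;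
* `ls4`: `cm (L_k t u) (S_{k+4} v) = S_{k+1} (N v) * L_{k+1} (ū v, u N v σv) * S_{k+2} (σN v σv) * L_{k+2} (u σv, t σN v² σv) * S_{k+3} (N v σv) * L_{k+3} (t v, ū v σv)`;
* the Weyl elements `ws k c = S_k c * S_{k+4} c⁻¹ * S_k c` (`c ≠ 0`; reflection `i ↦ 4k + 8 - i` of `ZMod 16`: `S_{k+j} ↦ S_{k+4-j}`, `L_{k+j} ↦ L_{k+3-j}`) and
  `wl k t u = L_k (t,u) * L_{k+4} (u/N, ū/σN) * L_k (ū N/σN, t σN/N)` (`(t,u) ≠ 0`; reflection `i ↦ 4k + 10 - i`: `S_{k+j} ↦ S_{k+5-j}`, `L_{k+j} ↦ L_{k+4-j}`)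
  act MONOMIALLY on all root groups: `S_j p ↦ S_{j'} (a p)`, `L_j (v,w) ↦ L_{j'} (b v, b σb w)` — the 32 fields `ws_s*`, `ws_l*`, `wl_s*`, `wl_l*` of `SysO`.
  (`wl k 0 1 = L_k(0,1) L_{k+4}(1,1) L_k(1,0)` acts without scalars, `(wl k 0 1)⁻¹ = wl k 1 1`; the scalars of `wl k t u` depend on `N` only.)
-/

set_option autoImplicit false

namespace Cfsg.Agent.Lib.helper6.F4O

open Cfsg.Agent.Lib.helper15.St2 Cfsg.Agent.Lib.helper7.Ce

/-- An octagonal datum: a Tits endomorphism `σ` (`σ² = Frobenius`) of a field of characteristic `2`. -/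
structure Oct (K : Type*) [Field K] where
  σ : K →+* K
  σσ : ∀ x, σ (σ x) = x ^ 2
  two : (2 : K) = 0

namespace Oct

variable {K : Type*} [Field K] (D : Oct K)

/-- the norm `N(t,u) = t^(2+σ) + t u + u^σ` of the Suzuki root group -/
def nm (t u : K) : K := t ^ 2 * D.σ t + t * u + D.σ u

/-- `ū = t^(1+σ) + u`: `(t,u)⁻¹ = (t, ū)` -/
def br (t u : K) : K := t * D.σ t + u

end Oct

variable {K : Type*} [Field K]

/-- The unipotent part of a Steinberg system of type `²F₄`: the 16 root groups, their group laws and the 14 families of commutator relations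
between two roots at an angle `< 180°`. -/
structure SysU (D : Oct K) (G : Type*) [Group G] where
  xs : ZMod 8 → K → G
  xl : ZMod 8 → K → K → G
  adds : ∀ k s t, xs k s * xs k t = xs k (s + t)
  mull : ∀ k t u v w, xl k t u * xl k v w = xl k (t + v) (u + w + t * D.σ v)
  c_sl0 : ∀ k s t u, xs k s * xl k t u = xl k t u * xs k s
  c_ss1 : ∀ k s t, xs k s * xs (k + 1) t = xs (k + 1) t * xs k s
  c_ss2 : ∀ k s t, xs k s * xs (k + 2) t = xs (k + 2) t * xs k s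
  c_ls1 : ∀ k t u s, xl k t u * xs (k + 1) s = xs (k + 1) s * xl k t u
  c_ll2 : ∀ k t u v w, xl k t u * xl (k + 2) v w = xl (k + 2) v w * xl k t u
  sl1 : ∀ k t v w, cm (xs k t) (xl (k + 1) v w) = xl k 0 (t * v)
  ll1 : ∀ k t u v w, cm (xl k t u) (xl (k + 1) v w) = xs (k + 1) (t * v)
  ls2 : ∀ k t u v, cm (xl k t u) (xs (k + 2) v) = xl (k + 1) 0 (t * v)
  sl2 : ∀ k t v w, cm (xs k t) (xl (k + 2) v w) =
    xl k 0 (D.σ t * v) * xs (k + 1) (t * D.σ v) * xl (k + 1) 0 (t * w)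
  ss3 : ∀ k t v, cm (xs k t) (xs (k + 3) v) = xs (k + 1) (D.σ t * v) * xs (k + 2) (t * D.σ v)
  ls3 : ∀ k t u v, cm (xl k t u) (xs (k + 3) v) =
    xl (k + 1) 0 (u * v) * xs (k + 2) (D.σ t * v) * xl (k + 2) 0 (t * D.σ v)
  sl3 : ∀ k t v w, cm (xs k t) (xl (k + 3) v w) =
    xl k (t * v) (t * D.σ t * w) * xs (k + 1) (t * D.σ t * D.nm v w) *
    xl (k + 1) (D.σ t * w) (t ^ 2 * D.σ t * (D.br v w * D.nm v w)) * xs (k + 2) (t * D.σ t * D.σ (D.nm v w)) *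
    xl (k + 2) (t * D.br v w) (t * D.σ t * (v * D.σ (D.nm v w))) * xs (k + 3) (t * D.nm v w)
  ll3 : ∀ k t u v w, cm (xl k t u) (xl (k + 3) v w) =
    xs (k + 1) (u * v) * xl (k + 1) (D.σ t * v) (t * u * (v * D.σ v) + D.nm t u * w) *
    xs (k + 2) (D.br t u * D.br v w) * xl (k + 2) (t * D.σ v) (t * D.σ t * v * D.br v w + u * D.nm v w) *
    xs (k + 3) (t * w)
  ls4 : ∀ k t u v, cm (xl k t u) (xs (k + 4) v) =
    xs (k + 1) (D.nm t u * v) * xl (k + 1) (D.br t u * v) (u * D.nm t u * (v * D.σ v)) *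
    xs (k + 2) (D.σ (D.nm t u) * (v * D.σ v)) * xl (k + 2) (u * D.σ v) (t * D.σ (D.nm t u) * (v ^ 2 * D.σ v)) *
    xs (k + 3) (D.nm t u * (v * D.σ v)) * xl (k + 3) (t * v) (D.br t u * (v * D.σ v))

namespace SysU

variable {D : Oct K} {G : Type*} [Group G] (S : SysU D G)

/-- the Weyl element of the root `S_k` (for `c ≠ 0`) -/
def ws (k : ZMod 8) (c : K) : G := S.xs k c * S.xs (k + 4) c⁻¹ * S.xs k c

/-- the Weyl element of the root `L_k` (for `(t,u) ≠ 0`): `L_k (t,u) * L_{k+4} (u/N, ū/σN) * L_k (ū N/σN, t σN/N)` -/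
def wl (k : ZMod 8) (t u : K) : G :=
  S.xl k t u * S.xl (k + 4) (u / D.nm t u) (D.br t u / D.σ (D.nm t u)) *
    S.xl k (D.br t u * (D.nm t u / D.σ (D.nm t u))) (t * (D.σ (D.nm t u) / D.nm t u))

/-- the torus element of the root `S_k` -/
def hs (k : ZMod 8) (c : K) : G := S.ws k c * (S.ws k 1)⁻¹

/-- the torus element of the root `L_k` -/
def hl (k : ZMod 8) (t u : K) : G := S.wl k t u * (S.wl k 0 1)⁻¹

/-- the subgroup generated by all root elements -/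
def gen : Subgroup G := Subgroup.closure ({g | ∃ k t, g = S.xs k t} ∪ {g | ∃ k t u, g = S.xl k t u})

/-- the image of a system under a homomorphism -/
def map {H : Type*} [Group H] (π : G →* H) : SysU D H where
  xs k t := π (S.xs k t)
  xl k t u := π (S.xl k t u)
  adds k s t := by rw [← map_mul, S.adds]
  mull k t u v w := by rw [← map_mul, S.mull]
  c_sl0 k s t u := by rw [← map_mul, ← map_mul, S.c_sl0]
  c_ss1 k s t := by rw [← map_mul, ← map_mul, S.c_ss1]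
  c_ss2 k s t := by rw [← map_mul, ← map_mul, S.c_ss2]
  c_ls1 k t u s := by rw [← map_mul, ← map_mul, S.c_ls1]
  c_ll2 k t u v w := by rw [← map_mul, ← map_mul, S.c_ll2]
  sl1 k t v w := by rw [← map_cm, S.sl1]
  ll1 k t u v w := by rw [← map_cm, S.ll1]
  ls2 k t u v := by rw [← map_cm, S.ls2]
  sl2 k t v w := by rw [← map_cm, S.sl2]; simp only [map_mul]
  ss3 k t v := by rw [← map_cm, S.ss3]; simp only [map_mul]
  ls3 k t u v := by rw [← map_cm, S.ls3]; simp only [map_mul]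
  sl3 k t v w := by rw [← map_cm, S.sl3]; simp only [map_mul]
  ll3 k t u v w := by rw [← map_cm, S.ll3]; simp only [map_mul]
  ls4 k t u v := by rw [← map_cm, S.ls4]; simp only [map_mul]

theorem map_xs {H : Type*} [Group H] (π : G →* H) (k : ZMod 8) (t : K) : (S.map π).xs k t = π (S.xs k t) := rfl

theorem map_xl {H : Type*} [Group H] (π : G →* H) (k : ZMod 8) (t u : K) : (S.map π).xl k t u = π (S.xl k t u) := rfl

theorem map_ws {H : Type*} [Group H] (π : G →* H) (k : ZMod 8) (c : K) : (S.map π).ws k c = π (S.ws k c) := by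
  simp only [ws, map_xs, map_mul]

theorem map_wl {H : Type*} [Group H] (π : G →* H) (k : ZMod 8) (t u : K) : (S.map π).wl k t u = π (S.wl k t u) := by
  simp only [wl, map_xl, map_mul]

theorem map_hs {H : Type*} [Group H] (π : G →* H) (k : ZMod 8) (c : K) : (S.map π).hs k c = π (S.hs k c) := by
  simp only [hs, map_ws, map_mul, map_inv]

theorem map_hl {H : Type*} [Group H] (π : G →* H) (k : ZMod 8) (t u : K) : (S.map π).hl k t u = π (S.hl k t u) := by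
  simp only [hl, map_wl, map_mul, map_inv]

end SysU

/-- A Steinberg system of type `²F₄` in the group `G`: `SysU` + the monomial action of the Weyl elements on all root groups. -/
structure SysO (D : Oct K) (G : Type*) [Group G] extends SysU D G where
  ws_s0 : ∀ k c p, c ≠ 0 → cj (toSysU.ws k c) (xs k p) = xs (k + 4) (c⁻¹ ^ 2 * p)
  ws_s1 : ∀ k c p, c ≠ 0 → cj (toSysU.ws k c) (xs (k + 1) p) = xs (k + 3) ((D.σ c)⁻¹ * p)
  ws_s2 : ∀ k c p, c ≠ 0 → cj (toSysU.ws k c) (xs (k + 2) p) = xs (k + 2) p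
  ws_s3 : ∀ k c p, c ≠ 0 → cj (toSysU.ws k c) (xs (k + 3) p) = xs (k + 1) (D.σ c * p)
  ws_s4 : ∀ k c p, c ≠ 0 → cj (toSysU.ws k c) (xs (k + 4) p) = xs k (c ^ 2 * p)
  ws_s5 : ∀ k c p, c ≠ 0 → cj (toSysU.ws k c) (xs (k + 5) p) = xs (k + 7) (D.σ c * p)
  ws_s6 : ∀ k c p, c ≠ 0 → cj (toSysU.ws k c) (xs (k + 6) p) = xs (k + 6) p
  ws_s7 : ∀ k c p, c ≠ 0 → cj (toSysU.ws k c) (xs (k + 7) p) = xs (k + 5) ((D.σ c)⁻¹ * p)
  ws_l0 : ∀ k c v w, c ≠ 0 → cj (toSysU.ws k c) (xl k v w) = xl (k + 3) (c⁻¹ * v) ((c * D.σ c)⁻¹ * w)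
  ws_l1 : ∀ k c v w, c ≠ 0 → cj (toSysU.ws k c) (xl (k + 1) v w) = xl (k + 2) (c * (D.σ c)⁻¹ * v) (c⁻¹ * w)
  ws_l2 : ∀ k c v w, c ≠ 0 → cj (toSysU.ws k c) (xl (k + 2) v w) = xl (k + 1) (D.σ c * c⁻¹ * v) (c * w)
  ws_l3 : ∀ k c v w, c ≠ 0 → cj (toSysU.ws k c) (xl (k + 3) v w) = xl k (c * v) (c * D.σ c * w)
  ws_l4 : ∀ k c v w, c ≠ 0 → cj (toSysU.ws k c) (xl (k + 4) v w) = xl (k + 7) (c * v) (c * D.σ c * w)
  ws_l5 : ∀ k c v w, c ≠ 0 → cj (toSysU.ws k c) (xl (k + 5) v w) = xl (k + 6) (D.σ c * c⁻¹ * v) (c * w)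
  ws_l6 : ∀ k c v w, c ≠ 0 → cj (toSysU.ws k c) (xl (k + 6) v w) = xl (k + 5) (c * (D.σ c)⁻¹ * v) (c⁻¹ * w)
  ws_l7 : ∀ k c v w, c ≠ 0 → cj (toSysU.ws k c) (xl (k + 7) v w) = xl (k + 4) (c⁻¹ * v) ((c * D.σ c)⁻¹ * w)
  wl_s0 : ∀ k t u p, D.nm t u ≠ 0 → cj (toSysU.wl k t u) (xs k p) = xs (k + 5) ((D.nm t u)⁻¹ * p)
  wl_s1 : ∀ k t u p, D.nm t u ≠ 0 → cj (toSysU.wl k t u) (xs (k + 1) p) = xs (k + 4) ((D.nm t u)⁻¹ * p)
  wl_s2 : ∀ k t u p, D.nm t u ≠ 0 → cj (toSysU.wl k t u) (xs (k + 2) p) = xs (k + 3) (D.nm t u * (D.σ (D.nm t u))⁻¹ * p)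
  wl_s3 : ∀ k t u p, D.nm t u ≠ 0 → cj (toSysU.wl k t u) (xs (k + 3) p) = xs (k + 2) (D.σ (D.nm t u) * (D.nm t u)⁻¹ * p)
  wl_s4 : ∀ k t u p, D.nm t u ≠ 0 → cj (toSysU.wl k t u) (xs (k + 4) p) = xs (k + 1) (D.nm t u * p)
  wl_s5 : ∀ k t u p, D.nm t u ≠ 0 → cj (toSysU.wl k t u) (xs (k + 5) p) = xs k (D.nm t u * p)
  wl_s6 : ∀ k t u p, D.nm t u ≠ 0 → cj (toSysU.wl k t u) (xs (k + 6) p) = xs (k + 7) (D.σ (D.nm t u) * (D.nm t u)⁻¹ * p)
  wl_s7 : ∀ k t u p, D.nm t u ≠ 0 → cj (toSysU.wl k t u) (xs (k + 7) p) = xs (k + 6) (D.nm t u * (D.σ (D.nm t u))⁻¹ * p)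
  wl_l0 : ∀ k t u v w, D.nm t u ≠ 0 → cj (toSysU.wl k t u) (xl k v w) =
    xl (k + 4) (D.σ (D.nm t u) * (D.nm t u)⁻¹ ^ 2 * v) ((D.σ (D.nm t u))⁻¹ * w)
  wl_l1 : ∀ k t u v w, D.nm t u ≠ 0 → cj (toSysU.wl k t u) (xl (k + 1) v w) =
    xl (k + 3) (D.nm t u * (D.σ (D.nm t u))⁻¹ * v) ((D.nm t u)⁻¹ * w)
  wl_l2 : ∀ k t u v w, D.nm t u ≠ 0 → cj (toSysU.wl k t u) (xl (k + 2) v w) = xl (k + 2) v w
  wl_l3 : ∀ k t u v w, D.nm t u ≠ 0 → cj (toSysU.wl k t u) (xl (k + 3) v w) =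
    xl (k + 1) (D.σ (D.nm t u) * (D.nm t u)⁻¹ * v) (D.nm t u * w)
  wl_l4 : ∀ k t u v w, D.nm t u ≠ 0 → cj (toSysU.wl k t u) (xl (k + 4) v w) =
    xl k (D.nm t u ^ 2 * (D.σ (D.nm t u))⁻¹ * v) (D.σ (D.nm t u) * w)
  wl_l5 : ∀ k t u v w, D.nm t u ≠ 0 → cj (toSysU.wl k t u) (xl (k + 5) v w) =
    xl (k + 7) (D.σ (D.nm t u) * (D.nm t u)⁻¹ * v) (D.nm t u * w)
  wl_l6 : ∀ k t u v w, D.nm t u ≠ 0 → cj (toSysU.wl k t u) (xl (k + 6) v w) = xl (k + 6) v w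
  wl_l7 : ∀ k t u v w, D.nm t u ≠ 0 → cj (toSysU.wl k t u) (xl (k + 7) v w) =
    xl (k + 5) (D.nm t u * (D.σ (D.nm t u))⁻¹ * v) ((D.nm t u)⁻¹ * w)

end Cfsg.Agent.Lib.helper6.F4O
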