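import Mathlib
import Cfsg.Agent.Lib.helper6.F4O.Defs

/-!
# Family F4O (S2114): the rank one facts of type `L` (Suzuki type), as a hypothesis of the presentation theorem (project F4A) and a result of project F4R.

In `²F₄(q)` the torus element `hl k t u = wl k t u * (wl k 0 1)⁻¹` depends on the norm `N = nm t u` only, and it is multiplicative in `N`
(in the `4 × 4` Suzuki model `wl k t u` is the antidiagonal matrix `(N, N^(σ-1), N^(1-σ), N⁻¹)`).  Since `nm 0 c = σ c`, this is stated with the representatives `hl 3 0 c`.
Only the SIMPLE root `L_3` is needed.  (Checked numerically on the Prelude matrices: `scripts/helper6/f4/check_rkl.py`.)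
-/

set_option autoImplicit false

namespace Cfsg.Agent.Lib.helper6.F4O

variable {K : Type*} [Field K] {D : Oct K} {G : Type*} [Group G]

/-- the rank one facts of the simple root `L_3` -/
structure SysU.RkL (Q : SysU D G) : Prop where
  hl_nm : ∀ t u c : K, D.nm t u = D.σ c → c ≠ 0 → Q.hl 3 t u = Q.hl 3 0 c
  hl_mul : ∀ c d : K, c ≠ 0 → d ≠ 0 → Q.hl 3 0 (c * d) = Q.hl 3 0 c * Q.hl 3 0 d

end Cfsg.Agent.Lib.helper6.F4O
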